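import Groth.Agent.QuotRepLib.Group
import Groth.Agent.MonoQuotLib.Orbit
import Groth.Agent.FibDimLib.SchemeInv
import Groth.Agent.FibDimLib.Comps
import Groth.Agent.FibDimLib.Local
import Groth.Agent.GrpFieldLib.Extra
import Groth.Agent.NeutralSchLib.Fibre
import Groth.Agent.S5341
import Groth.Agent.S5344
import Groth.Agent.S5345
import Groth.Agent.S5348
import Groth.Agent.S5350

/-!
# Connected components of quotients of groups over a field
-/

set_option autoImplicit false
set_option linter.style.haveILetI false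
set_option backward.isDefEq.respectTransparency false
set_option maxHeartbeats 800000

universe u

open CategoryTheory CategoryTheory.Limits MonoidalCategory CartesianMonoidalCategory AlgebraicGeometry TopologicalSpace
open scoped MonObj
open Groth.Agent.QuotRep (actHom actHom_eq exists_rel_iff)

noncomputable section

attribute [-instance] CategoryTheory.Hom.commGroup

namespace QuotThickLib

section action

variable {S : Scheme.{u}} {F G X : Over S} [GrpObj F] [GrpObj G] (u : F ⟶ G) [IsMonHom u]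
  (p : G ⟶ X) [Flat p.left] [Surjective p.left] [LocallyOfFinitePresentation p.left]
  (sq : IsPullback (actHom u) (snd F G) p p)

include sq in
/-- The quotient carries the action of the group by inverse right translations, transitively. -/
theorem exists_action : ∃ a : AlgGrp.Action G X, Surjective (lift a.act (snd G X)).left := by
  obtain ⟨hf1, hf2, hf3⟩ : Flat (𝟙 G ⊗ₘ p).left ∧ LocallyOfFinitePresentation (𝟙 G ⊗ₘ p).left ∧
      Surjective (𝟙 G ⊗ₘ p).left := by
    haveI : Flat (𝟙 G : G ⟶ G).left := inferInstanceAs (Flat (𝟙 G.left))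
    haveI : LocallyOfFinitePresentation (𝟙 G : G ⟶ G).left := inferInstanceAs (LocallyOfFinitePresentation (𝟙 G.left))
    haveI : Surjective (𝟙 G : G ⟶ G).left := inferInstanceAs (Surjective (𝟙 G.left))
    exact Groth.Agent.MonoQuot.fppf_tensor (𝟙 G) p
  obtain ⟨α, hα⟩ := Groth.Agent.MonoQuot.exists_desc_over (𝟙 G ⊗ₘ p) ((snd G G * (fst G G)⁻¹) ≫ p) fun T a b e => by
    have e1 : a ≫ fst G G = b ≫ fst G G := by
      have := congrArg (· ≫ fst G X) e
      simpa using this
    have e2 : (a ≫ snd G G) ≫ p = (b ≫ snd G G) ≫ p := by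
      have := congrArg (· ≫ snd G X) e
      simpa using this
    obtain ⟨f, hf⟩ := (exists_rel_iff u _ _).1 ⟨sq.lift _ _ e2, sq.lift_fst _ _ _, sq.lift_snd _ _ _⟩
    rw [← Category.assoc, ← Category.assoc, MonObj.comp_mul, MonObj.comp_mul, GrpObj.comp_inv, GrpObj.comp_inv, e1, ← hf,
      _root_.mul_assoc]
    obtain ⟨r, hr1, hr2⟩ := (exists_rel_iff u ((f ≫ u) * (b ≫ snd G G * (b ≫ fst G G)⁻¹)) _).2 ⟨f, rfl⟩
    rw [← hr1, ← hr2]
    exact (Category.assoc r (actHom u) p).trans ((congrArg (r ≫ ·) sq.w).trans (Category.assoc _ _ _).symm)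
  have key : ∀ {T : Over S} (g h : T ⟶ G), lift g (h ≫ p) ≫ α = (h * g⁻¹) ≫ p := fun g h => by
    rw [show lift g (h ≫ p) = lift g h ≫ (𝟙 G ⊗ₘ p) by rw [lift_map, Category.comp_id], Category.assoc, hα,
      ← Category.assoc, MonObj.comp_mul, GrpObj.comp_inv, lift_fst, lift_snd]
  haveI := Groth.Agent.MonoQuot.epi_over p
  have h1 : (η[G] ▷ X) ≫ α = (λ_ X).hom := by
    haveI : Epi (𝟙_ (Over S) ◁ p) := by
      obtain ⟨a, b, c⟩ : Flat (𝟙_ (Over S) ◁ p).left ∧ LocallyOfFinitePresentation (𝟙_ (Over S) ◁ p).left ∧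
          Surjective (𝟙_ (Over S) ◁ p).left := by
        haveI : Flat (𝟙 (𝟙_ (Over S)) : 𝟙_ (Over S) ⟶ 𝟙_ (Over S)).left := inferInstanceAs (Flat (𝟙 (𝟙_ (Over S)).left))
        haveI : LocallyOfFinitePresentation (𝟙 (𝟙_ (Over S)) : 𝟙_ (Over S) ⟶ 𝟙_ (Over S)).left :=
          inferInstanceAs (LocallyOfFinitePresentation (𝟙 (𝟙_ (Over S)).left))
        haveI : Surjective (𝟙 (𝟙_ (Over S)) : 𝟙_ (Over S) ⟶ 𝟙_ (Over S)).left := inferInstanceAs (Surjective (𝟙 (𝟙_ (Over S)).left))
        rw [← id_tensorHom]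
        exact Groth.Agent.MonoQuot.fppf_tensor (𝟙 _) p
      haveI := a; haveI := b; haveI := c
      exact Groth.Agent.MonoQuot.epi_over _
    rw [← cancel_epi (𝟙_ (Over S) ◁ p)]
    have e : (𝟙_ (Over S) ◁ p) ≫ (η[G] ▷ X) = lift (toUnit _ ≫ η[G]) (snd _ G ≫ p) := by
      refine CartesianMonoidalCategory.hom_ext _ _ ?_ ?_
      · simp [toUnit_unique (fst (𝟙_ (Over S)) G) (toUnit _)]
      · simp [leftUnitor_hom]
    rw [reassoc_of% e, key, ← Hom.one_def, inv_one, mul_one, leftUnitor_hom, whiskerLeft_snd]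
  have h2 : (μ[G] ▷ X) ≫ α = (α_ G G X).hom ≫ (G ◁ α) ≫ α := by
    obtain ⟨a, b, c⟩ : Flat ((𝟙 (G ⊗ G)) ⊗ₘ p).left ∧ LocallyOfFinitePresentation ((𝟙 (G ⊗ G)) ⊗ₘ p).left ∧
        Surjective ((𝟙 (G ⊗ G)) ⊗ₘ p).left := by
      haveI : Flat (𝟙 (G ⊗ G) : G ⊗ G ⟶ G ⊗ G).left := inferInstanceAs (Flat (𝟙 (G ⊗ G).left))
      haveI : LocallyOfFinitePresentation (𝟙 (G ⊗ G) : G ⊗ G ⟶ G ⊗ G).left :=
        inferInstanceAs (LocallyOfFinitePresentation (𝟙 (G ⊗ G).left))
      haveI : Surjective (𝟙 (G ⊗ G) : G ⊗ G ⟶ G ⊗ G).left := inferInstanceAs (Surjective (𝟙 (G ⊗ G).left))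
      exact Groth.Agent.MonoQuot.fppf_tensor (𝟙 _) p
    haveI := a; haveI := b; haveI := c
    haveI := Groth.Agent.MonoQuot.epi_over ((𝟙 (G ⊗ G)) ⊗ₘ p)
    rw [← cancel_epi ((𝟙 (G ⊗ G)) ⊗ₘ p)]
    let g := fst (G ⊗ G) G ≫ fst G G
    let g' := fst (G ⊗ G) G ≫ snd G G
    let h := snd (G ⊗ G) G
    have e : ((𝟙 (G ⊗ G)) ⊗ₘ p) ≫ (μ[G] ▷ X) = lift (g * g') (h ≫ p) := by
      refine CartesianMonoidalCategory.hom_ext _ _ ?_ ?_
      · simp only [Category.assoc, whiskerRight_fst, tensorHom_fst_assoc, Category.id_comp, lift_fst, g, g',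
          ← MonObj.comp_mul, Hom.mul_def]
        simp
      · simp [h]
    have e' : ((𝟙 (G ⊗ G)) ⊗ₘ p) ≫ (α_ G G X).hom ≫ (G ◁ α) = lift g (lift g' (h ≫ p) ≫ α) := by
      refine CartesianMonoidalCategory.hom_ext _ _ ?_ ?_
      · simp [g]
      · have hr : ((𝟙 (G ⊗ G)) ⊗ₘ p) ≫ (α_ G G X).hom ≫ snd G (G ⊗ X) = lift g' (h ≫ p) := by
          refine CartesianMonoidalCategory.hom_ext _ _ ?_ ?_
          · rw [Category.assoc, Category.assoc, associator_hom_snd_fst, tensorHom_fst_assoc, Category.id_comp, lift_fst]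
          · rw [Category.assoc, Category.assoc, associator_hom_snd_snd, tensorHom_snd, lift_snd]
        rw [Category.assoc, Category.assoc, whiskerLeft_snd, lift_snd, ← hr, Category.assoc, Category.assoc]
    rw [reassoc_of% e, reassoc_of% e', key, key, key, _root_.mul_inv_rev, _root_.mul_assoc]
  refine ⟨⟨α, h1, h2⟩, ?_⟩
  let ψ : G ⊗ G ⟶ G ⊗ G := lift (snd G G * (fst G G)⁻¹) (snd G G)
  let ψ' : G ⊗ G ⟶ G ⊗ G := lift ((fst G G)⁻¹ * snd G G) (snd G G)
  have e1 : ψ ≫ ψ' = 𝟙 _ := by
    refine CartesianMonoidalCategory.hom_ext _ _ ?_ (by simp [ψ, ψ'])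
    simp only [ψ, ψ', Category.assoc, lift_fst, lift_snd, MonObj.comp_mul, GrpObj.comp_inv, Category.id_comp,
      _root_.mul_inv_rev, _root_.inv_inv, _root_.mul_assoc, inv_mul_cancel, _root_.mul_one]
  have e2 : ψ' ≫ ψ = 𝟙 _ := by
    refine CartesianMonoidalCategory.hom_ext _ _ ?_ (by simp [ψ, ψ'])
    simp only [ψ, ψ', Category.assoc, lift_fst, lift_snd, MonObj.comp_mul, GrpObj.comp_inv, Category.id_comp,
      _root_.mul_inv_rev, _root_.inv_inv, mul_inv_cancel_left]
  haveI : IsIso ψ := ⟨ψ', e1, e2⟩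
  haveI : IsIso ψ.left := inferInstanceAs (IsIso ((Over.forget S).map ψ))
  obtain ⟨a, b, c⟩ := Groth.Agent.MonoQuot.fppf_tensor p p
  haveI := c
  have e : (𝟙 G ⊗ₘ p) ≫ lift α (snd G X) = ψ ≫ (p ⊗ₘ p) := by
    refine CartesianMonoidalCategory.hom_ext _ _ ?_ ?_
    · simp only [Category.assoc, lift_fst, hα, ψ, tensorHom_fst, lift_fst_assoc]
    · simp [ψ]
  haveI : Surjective ((𝟙 G ⊗ₘ p) ≫ lift α (snd G X)).left := by rw [e, Over.comp_left]; infer_instance
  exact ⟨fun z => by
    obtain ⟨w, hw⟩ := ((𝟙 G ⊗ₘ p) ≫ lift α (snd G X)).left.surjective z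
    exact ⟨(𝟙 G ⊗ₘ p).left w, hw⟩⟩

end action

section field

variable {k : Type u} [Field k]

/-- In a locally noetherian scheme in which every point is on a single irreducible component, the components are
the connected components, and are open. -/
theorem component_eq {X : Scheme.{u}} [IsLocallyNoetherian X]
    (huniq : ∀ z : X, ∃! C, C ∈ irreducibleComponents ↥X ∧ z ∈ C) (x : X) :
    IsIrreducible (connectedComponent x) ∧ IsOpen (connectedComponent x) := by
  obtain ⟨C, ⟨hC, hxC⟩, -⟩ := huniq x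
  have hopen : IsOpen C := by
    refine isOpen_iff_forall_mem_open.2 fun z hz => ?_
    obtain ⟨U, hU, hzU, -⟩ := exists_isAffineOpen_mem_and_subset (X := X) (x := z) (U := ⊤) trivial
    haveI : IsNoetherianRing Γ(X, U) := IsLocallyNoetherian.component_noetherian ⟨U, hU⟩
    haveI : NoetherianSpace ↥(U : Set X) := noetherianSpace_of_isAffineOpen U hU
    let bad := {Z ∈ irreducibleComponents ↥(U : Set X) | ¬ closure (Subtype.val '' Z) ⊆ C}
    have hbad : bad.Finite := (NoetherianSpace.finite_irreducibleComponents).subset fun _ h => h.1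
    refine ⟨(U : Set X) \ ⋃ Z ∈ bad, closure (Subtype.val '' Z), ?_,
      U.2.sdiff (hbad.isClosed_biUnion fun _ _ => isClosed_closure), hzU, ?_⟩
    · rintro y ⟨hyU, hy⟩
      by_contra hyC
      refine hy (Set.mem_iUnion₂.2 ⟨irreducibleComponent ⟨y, hyU⟩, ⟨irreducibleComponent_mem_irreducibleComponents _,
        fun hle => hyC (hle (subset_closure ⟨_, mem_irreducibleComponent, rfl⟩))⟩,
        subset_closure ⟨_, mem_irreducibleComponent, rfl⟩⟩)
    · intro hz'
      obtain ⟨Z, ⟨hZ, hZC⟩, hzZ⟩ := Set.mem_iUnion₂.1 hz'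
      have hirr : IsIrreducible (closure (Subtype.val '' Z)) :=
        (hZ.1.image _ continuous_subtype_val.continuousOn).closure
      obtain ⟨D, hD, hle⟩ := exists_mem_irreducibleComponents_subset_of_isIrreducible _ hirr
      exact hZC ((huniq z).unique ⟨hD, hle hzZ⟩ ⟨hC, hz⟩ ▸ hle)
  have hcl : IsClopen C := ⟨isClosed_of_mem_irreducibleComponents C hC, hopen⟩
  have : connectedComponent x = C :=
    (hcl.connectedComponent_subset hxC).antisymm (hC.1.isConnected.subset_connectedComponent hxC)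
  rw [this]
  exact ⟨hC.1, hopen⟩

variable {F G X : Over (Spec (CommRingCat.of k))} [GrpObj F] [GrpObj G] [LocallyOfFiniteType F.hom]
  [LocallyOfFiniteType G.hom] [LocallyOfFiniteType X.hom] [IsSeparated X.hom] (u : F ⟶ G) [IsMonHom u] (p : G ⟶ X) [Flat p.left]
  [Surjective p.left] [LocallyOfFinitePresentation p.left] (sq : IsPullback (actHom u) (snd F G) p p)

include sq in
/-- The connected components of the quotient are irreducible and quasi-compact, of the expected dimension. -/
theorem components (x : X.left) :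
    IsIrreducible (connectedComponent x) ∧ IsCompact (connectedComponent x) ∧
      topologicalKrullDim ↥(connectedComponent x) + topologicalKrullDim ↥F.left = topologicalKrullDim ↥G.left := by
  obtain ⟨a, ha⟩ := exists_action u p sq
  haveI : IsLocallyNoetherian X.left := LocallyOfFiniteType.isLocallyNoetherian X.hom
  have huniq : ∀ z : X.left, ∃! C, C ∈ irreducibleComponents ↥X.left ∧ z ∈ C := by
    let t := Spec.map (CommRingCat.ofHom (algebraMap k k))
    haveI : IsIso t := by
      have e : t = 𝟙 _ := by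
        show Spec.map (CommRingCat.ofHom (RingHom.id k)) = _
        exact Spec.map_id _
      rw [e]; infer_instance
    haveI : IsIso (pullback.fst X.hom t) := inferInstance
    let φ := (pullback.fst X.hom t).homeomorph
    intro z
    obtain ⟨C, ⟨hC, hzC⟩, hu⟩ := (Groth.Agent.S5348.result k G X a ha).1 k (φ.symm z)
    refine ⟨φ.symm ⁻¹' C, ⟨preimage_mem_irreducibleComponents hC φ.symm.isOpenEmbedding ⟨φ.symm z, hzC, z, rfl⟩, hzC⟩,
      fun D hD => ?_⟩
    have h := hu (φ ⁻¹' D) ⟨preimage_mem_irreducibleComponents hD.1 φ.isOpenEmbedding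
      ⟨z, hD.2, φ.symm z, φ.apply_symm_apply z⟩, by simpa using hD.2⟩
    rw [← h]
    ext w
    simp
  obtain ⟨hirr, hop⟩ := component_eq huniq x
  refine ⟨hirr, ?_, ?_⟩
  · haveI : QuasiSeparatedSpace ↥X.left := quasiSeparatedSpace_of_quasiSeparated X.hom
    obtain ⟨O, hO, hxO, hOC⟩ := exists_isAffineOpen_mem_and_subset (X := X.left) (x := x)
      (U := ⟨connectedComponent x, hop⟩) mem_connectedComponent
    let pt : ↥(𝟙_ (Over (Spec (CommRingCat.of k)))).left := IsLocalRing.closedPoint k
    let e := η[G].left.base pt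
    obtain ⟨-, -, h3⟩ := Groth.Agent.S5350.result k G X a ha pt (irreducibleComponent e)
      (irreducibleComponent_mem_irreducibleComponents _) mem_irreducibleComponent O
    have hV := h3 fun W hW hWo => QuasiSeparatedSpace.inter_isCompact _ _ O.2 hO.isCompact hWo hW
    have hC : closure (O : Set X.left) = connectedComponent x :=
      (closure_minimal hOC isClosed_connectedComponent).antisymm
        (subset_closure_inter_of_isPreirreducible_of_isOpen hirr.2 O.2 ⟨x, mem_connectedComponent, hxO⟩ |>.trans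
          (closure_mono Set.inter_subset_right))
    rw [← hC, ← hV]
    refine IsCompact.image ?_ a.act.left.continuous
    obtain ⟨hWo, -, -⟩ := Groth.Agent.S5344.result k G pt
    have hWc := Groth.Agent.S5345.result k G e
    let W : G.left.Opens := ⟨connectedComponent e, hWo⟩
    haveI : CompactSpace W.toScheme := isCompact_iff_compactSpace.mp hWc
    haveI : CompactSpace O.toScheme := isCompact_iff_compactSpace.mp hO.isCompact
    let iW : Over.mk (W.ι ≫ G.hom) ⟶ G := Over.homMk W.ι rfl
    let iO : Over.mk (O.ι ≫ X.hom) ⟶ X := Over.homMk O.ι rfl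
    haveI : QuasiCompact (W.ι ≫ G.hom) := HasAffineProperty.iff_of_isAffine.mpr ‹_›
    haveI : QuasiCompact (O.ι ≫ X.hom) := HasAffineProperty.iff_of_isAffine.mpr ‹_›
    haveI : CompactSpace ↥(Over.mk (W.ι ≫ G.hom) ⊗ Over.mk (O.ι ≫ X.hom)).left := by
      haveI : QuasiCompact (pullback.fst (W.ι ≫ G.hom) (O.ι ≫ X.hom) ≫ W.ι ≫ G.hom) := inferInstance
      exact (HasAffineProperty.iff_of_isAffine (P := @QuasiCompact)).mp this
    have hT : IsCompact {z : ↥(G ⊗ X).left | (fst G X).left.base z ∈ W ∧ (snd G X).left.base z ∈ O} := by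
      have hr : Set.range (iW ⊗ₘ iO).left.base = {z : ↥(G ⊗ X).left | (fst G X).left.base z ∈ W ∧ (snd G X).left.base z ∈ O} := by
        rw [Over.tensorHom_left]
        refine (Scheme.Pullback.range_map _ _ _ _ _ _ _ _ _).trans ?_
        show _ ∩ _ = _
        rw [show Set.range iW.left.base = (W : Set G.left) from W.range_ι,
          show Set.range iO.left.base = (O : Set X.left) from O.range_ι]
        rfl
      rw [← hr]
      exact isCompact_range (iW ⊗ₘ iO).left.continuous
    have hsub : irreducibleComponent e ⊆ connectedComponent e :=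
      (isIrreducible_irreducibleComponent.isConnected).subset_connectedComponent mem_irreducibleComponent
    have hcl := hT.inter_right (isClosed_irreducibleComponent.preimage (fst G X).left.continuous (t := irreducibleComponent e))
    convert hcl using 1
    ext z
    exact ⟨fun hz => ⟨⟨hsub hz.1, hz.2⟩, hz.1⟩, fun hz => ⟨hz.2, hz.1.2⟩⟩
  · obtain ⟨g, hg⟩ := p.left.surjective x
    let z₀ : ↥(F ⊗ G).left := (lift (1 : G ⟶ F) (𝟙 G)).left.base g
    have hz₀ : (actHom u).left.base z₀ = g := by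
      have e : lift (1 : G ⟶ F) (𝟙 G) ≫ actHom u = 𝟙 G := by
        rw [actHom_eq, MonObj.comp_mul, lift_fst_assoc, lift_snd, MonObj.one_comp, _root_.one_mul]
      exact congrArg (fun m => m.left.base g) e
    haveI : Flat G.hom := Groth.Agent.GrpField.flat_field _
    haveI : LocallyOfFiniteType (p.left ≫ X.hom) := by rw [Over.w p]; infer_instance
    haveI : LocallyOfFiniteType p.left := locallyOfFiniteType_of_comp p.left X.hom
    have hfd : FlatMor.fibreDimAt p.left g = topologicalKrullDim ↥F.left := by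
      have sqf : IsPullback (actHom u).left (snd F G).left p.left p.left := sq.map (Over.forget _)
      rw [← hz₀, ← FibDimLib.fibreDimAt_baseChange sqf]
      refine (FibDimLib.fibreDimAt_baseChange (IsPullback.of_hasPullback F.hom G.hom) z₀).trans ?_
      let f₀ := (pullback.fst F.hom G.hom).base z₀
      refine Eq.trans ?_ ((Groth.Agent.S5341.result k F).2 f₀)
      let φ : F.hom.fiber (F.hom.base f₀) ≃ₜ F.left :=
        (F.hom.fiberHomeo _).trans ((Homeomorph.setCongr (Set.eq_univ_of_forall fun w => Subsingleton.elim (α := PrimeSpectrum k) _ _)).trans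
          (Homeomorph.Set.univ _))
      show FlatMor.localDim (F.hom.fiber (F.hom.base f₀)) (F.hom.asFiber f₀) = _
      rw [← Groth.Agent.NeutralSch.localDim_homeo φ]
      exact congrArg (FlatMor.localDim ↥F.left) (congrArg Subtype.val ((F.hom.fiberHomeo _).apply_symm_apply _))
    have hadd := FibDimLib.localDim_eq_add_fibreDimAt X.hom p.left g
    rw [hfd, hg, (Groth.Agent.S5341.result k G).2 g] at hadd
    rw [hadd]
    congr 1
    -- local dimension in an open irreducible component
    let C : X.left.Opens := ⟨connectedComponent x, hop⟩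
    haveI : IrreducibleSpace ↥C.toScheme := isIrreducible_iff_irreducibleSpace.1 hirr
    haveI : LocallyOfFiniteType (C.ι ≫ X.hom) := inferInstance
    refine le_antisymm (le_iInf fun V => ?_) (iInf_le_of_le ⟨C, mem_connectedComponent⟩ le_rfl)
    have h1 := FibDimLib.localDim_of_irreducible (C.ι ≫ X.hom) ⟨x, mem_connectedComponent⟩
    show topologicalKrullDim ↥C.toScheme ≤ _
    rw [← h1]
    refine iInf_le_of_le ⟨C.ι ⁻¹ᵁ V.1, V.2⟩ ?_
    have hemb : Topology.IsInducing (fun w : ↥((C.ι ⁻¹ᵁ V.1 : C.toScheme.Opens) : Set C.toScheme) =>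
        (⟨C.ι.base w.1, w.2⟩ : (V.1 : Set X.left))) :=
      (C.ι.isOpenEmbedding.isInducing.comp Topology.IsInducing.subtypeVal).codRestrict _
    exact hemb.topologicalKrullDim_le

end field

end QuotThickLib
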