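import Groth.Agent.QuotThickLib.Rep
import Groth.Agent.QuotRepLib.Final
import Groth.Agent.GrpFieldLib.Extra
import Groth.Agent.S5938
import Groth.Agent.DiagRepLib.Split
import Mathlib.RingTheory.Artinian.Module

/-!
# Quotients by flat closed subgroups over an artinian base, without flatness of the ambient group
-/

set_option autoImplicit false
set_option linter.style.haveILetI false
set_option backward.isDefEq.respectTransparency false
set_option maxHeartbeats 800000

universe u

open CategoryTheory CategoryTheory.Limits MonoidalCategory CartesianMonoidalCategory AlgebraicGeometry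
open AlgSp AlgSpLib
open scoped MonObj
open Groth.Agent.QuotRep (actHom actHom_eq)

noncomputable section

attribute [-instance] CategoryTheory.Hom.commGroup

namespace QuotThickLib

section bc

variable {S S' : Scheme.{u}} (f : S' ⟶ S) {F G X : Over S} [GrpObj F] [GrpObj G] (u : F ⟶ G)

/-- Transport of the orbit square to a base change. -/
theorem isPullback_bc_act {Y : Over S'} (q : Red.bc f G ⟶ Y)
    (sq : IsPullback (actHom (F := Red.bc f F) (G := Red.bc f G) ((Over.pullback f).map u)) (snd (Red.bc f F) (Red.bc f G)) q q) :
    IsPullback ((Over.pullback f).map (actHom u)) ((Over.pullback f).map (snd F G)) q q := by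
  let e := CartesianMonoidalCategory.prodComparison (Over.pullback f) F G
  refine sq.of_iso (asIso e).symm (Iso.refl _) (Iso.refl _) (Iso.refl _) ?_ ?_ (by simp) (by simp)
  · rw [Iso.refl_hom, Category.comp_id, Iso.symm_hom, asIso_inv, IsIso.eq_inv_comp]
    rw [actHom_eq, actHom_eq, MonObj.comp_mul, Functor.map_mul, Functor.map_comp, CartesianMonoidalCategory.prodComparison_fst_assoc,
      CartesianMonoidalCategory.prodComparison_snd]
  · rw [Iso.refl_hom, Category.comp_id, Iso.symm_hom, asIso_inv, IsIso.eq_inv_comp]
    exact CartesianMonoidalCategory.prodComparison_snd _ _ _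

/-- Transport of the orbit square from a base change. -/
theorem isPullback_act_bc {Y : Over S'} (q : Red.bc f G ⟶ Y)
    (sq : IsPullback ((Over.pullback f).map (actHom u)) ((Over.pullback f).map (snd F G)) q q) :
    IsPullback (actHom (F := Red.bc f F) (G := Red.bc f G) ((Over.pullback f).map u)) (snd (Red.bc f F) (Red.bc f G)) q q := by
  let e := CartesianMonoidalCategory.prodComparison (Over.pullback f) F G
  refine sq.of_iso (asIso e) (Iso.refl _) (Iso.refl _) (Iso.refl _) ?_ ?_ (by simp) (by simp)
  · rw [Iso.refl_hom, Category.comp_id, asIso_hom]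
    rw [actHom_eq, actHom_eq, MonObj.comp_mul, Functor.map_mul, Functor.map_comp, CartesianMonoidalCategory.prodComparison_fst_assoc,
      CartesianMonoidalCategory.prodComparison_snd]
  · rw [Iso.refl_hom, Category.comp_id, asIso_hom]
    exact (CartesianMonoidalCategory.prodComparison_snd _ _ _).symm

/-- The forgetful image of a base change is the product with the new base. -/
theorem isPullback_res {Y : Over S'} {U R : Over S} (t s : R ⟶ U) (q : Red.bc f U ⟶ Y)
    (sq : IsPullback ((Over.pullback f).map t) ((Over.pullback f).map s) q q)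
    (p : U ⊗ Over.mk f ⟶ Over.mk (Y.hom ≫ f)) (hp : p.left = q.left) :
    IsPullback (t ▷ Over.mk f) (s ▷ Over.mk f) p p := by
  have key : ∀ g : R ⟶ U, (g ▷ Over.mk f).left = ((Over.pullback f).map g).left := fun g => by
    refine pullback.hom_ext ?_ ?_
    · exact (Over.whiskerRight_left_fst g).trans (pullback.lift_fst _ _ _).symm
    · exact (Over.whiskerRight_left_snd g).trans (pullback.lift_snd _ _ _).symm
  have h : IsPullback (t ▷ Over.mk f).left (s ▷ Over.mk f).left p.left p.left := by
    rw [key, key, hp]
    exact sq.map (Over.forget S')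
  exact IsPullback.of_map (Over.forget S) (Over.OverMorphism.ext h.w) h

end bc

variable {A : Type u} [CommRing A] [IsArtinianRing A] [IsLocalRing A]
  {F G : Over (Spec (CommRingCat.of A))} [GrpObj F] [GrpObj G] [LocallyOfFiniteType G.hom] [Flat F.hom]

/-- The closed point of an artinian local ring. -/
abbrev resPt (A : Type u) [CommRing A] [IsLocalRing A] :
    Spec (CommRingCat.of (IsLocalRing.ResidueField A)) ⟶ Spec (CommRingCat.of A) :=
  Spec.map (CommRingCat.ofHom (IsLocalRing.residue A))

theorem isThickening_resPt : MoreMor.IsThickening (resPt A) := by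
  haveI : Subsingleton ↥(Spec (CommRingCat.of A)) := Groth.Agent.NeutralSch.subsingleton_spec A
  haveI : Nonempty ↥(Spec (CommRingCat.of (IsLocalRing.ResidueField A))) :=
    inferInstanceAs (Nonempty (PrimeSpectrum (IsLocalRing.ResidueField A)))
  exact ⟨IsClosedImmersion.spec_of_surjective _ Ideal.Quotient.mk_surjective,
    ⟨fun y => ⟨Classical.arbitrary _, Subsingleton.elim _ _⟩⟩⟩

/-- Quotient by a flat closed subgroup over an artinian local ring. -/
theorem exists_quotient (u : F ⟶ G) [IsMonHom u] [IsClosedImmersion u.left] :
    ∃ (X : Over (Spec (CommRingCat.of A))) (p : G ⟶ X),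
      IsSeparated X.hom ∧ LocallyOfFiniteType X.hom ∧ Surjective p.left ∧ Flat p.left ∧
      LocallyOfFinitePresentation p.left ∧ IsPullback (actHom u) (snd F G) p p := by
  haveI : IsNoetherianRing A := inferInstance
  haveI : IsLocallyNoetherian (Spec (CommRingCat.of A)) := inferInstance
  haveI : LocallyOfFiniteType F.hom := by rw [← Over.w u]; infer_instance
  haveI : LocallyOfFinitePresentation F.hom := UOpenLib.locallyOfFinitePresentation_of_isLocallyNoetherian F.hom
  haveI : Mono u := Over.mono_of_mono_left u
  let f := resPt A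
  let u₀ : Red.bc f F ⟶ Red.bc f G := (Over.pullback f).map u
  haveI : IsClosedImmersion u₀.left := by
    have sq : IsPullback (pullback.fst F.hom f) u₀.left u.left (pullback.fst G.hom f) := by
      refine IsPullback.of_bot ?_ (pullback.lift_fst _ _ _).symm (IsPullback.of_hasPullback G.hom f)
      rw [Over.w u, show u₀.left ≫ pullback.snd G.hom f = pullback.snd F.hom f from pullback.lift_snd _ _ _]
      exact IsPullback.of_hasPullback F.hom f
    exact MorphismProperty.of_isPullback (P := @IsClosedImmersion) sq inferInstance
  haveI : Mono u₀ := Over.mono_of_mono_left u₀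
  haveI : LocallyOfFiniteType (Red.bc f G).hom := inferInstanceAs (LocallyOfFiniteType (pullback.snd G.hom f))
  haveI : LocallyOfFiniteType (Red.bc f F).hom := inferInstanceAs (LocallyOfFiniteType (pullback.snd F.hom f))
  haveI : Flat (Red.bc f F).hom := Groth.Agent.GrpField.flat_field _
  haveI : Flat (Red.bc f G).hom := Groth.Agent.GrpField.flat_field _
  haveI : IsMonHom u₀ := Groth.Agent.DiagRep.isMonHom_bc_map f u
  obtain ⟨Y, q, hq1, hq2, hq3, sqq, -, -, -⟩ :=
    Groth.Agent.QuotRep.exists_quotient_artinian (A := IsLocalRing.ResidueField A) u₀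
  let X₀ : Over (Spec (CommRingCat.of A)) := Over.mk (Y.hom ≫ f)
  let p₀ : G ⊗ Over.mk f ⟶ X₀ := Over.homMk q.left (by
    show q.left ≫ Y.hom ≫ f = pullback.fst G.hom f ≫ G.hom
    rw [pullback.condition, ← Category.assoc, Over.w q]
    rfl)
  haveI : Flat p₀.left := hq1
  haveI : Surjective p₀.left := hq2
  haveI : LocallyOfFinitePresentation p₀.left := hq3
  have sq₀ := isPullback_res f (actHom u) (snd F G) q (isPullback_bc_act f u q sqq) p₀ rfl
  haveI : Flat (snd F G).left := inferInstanceAs (Flat (pullback.snd F.hom G.hom))
  haveI : LocallyOfFinitePresentation (snd F G).left :=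
    inferInstanceAs (LocallyOfFinitePresentation (pullback.snd F.hom G.hom))
  haveI : Flat (actHom u).left := Groth.Agent.QuotRep.actHom_left_props u @Flat ‹_›
  haveI : LocallyOfFinitePresentation (actHom u).left :=
    Groth.Agent.QuotRep.actHom_left_props u @LocallyOfFinitePresentation ‹_›
  have hQ := isRepSh_of_thick (Groth.Agent.QuotRep.isEqvRel_act u) (S₀ := Over.mk f) isThickening_resPt p₀ sq₀
  obtain ⟨X, p, sq, h1, h2, h3⟩ :=
    Groth.Agent.QuotRep.exists_quotient_of_isRepSh (Groth.Agent.QuotRep.isEqvRel_act u) hQ
  haveI := h1; haveI := h2; haveI := h3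
  refine ⟨X, p, Groth.Agent.QuotRep.isSeparated_quotient sq, ?_, h2, h1, h3, sq⟩
  haveI : LocallyOfFiniteType (p.left ≫ X.hom) := by rw [Over.w p]; infer_instance
  exact Groth.Agent.S5938.result p.left X.hom

end QuotThickLib
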