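import Groth.Agent.BootLib.Main
import Groth.Agent.ThickQuotLib.Scheme
import Groth.Agent.ShfQuotLib.Basic

/-!
# Quotients whose reduction is a scheme are schemes
-/

set_option autoImplicit false
set_option backward.isDefEq.respectTransparency false
set_option maxHeartbeats 800000

universe u

open CategoryTheory CategoryTheory.Limits MonoidalCategory CartesianMonoidalCategory AlgebraicGeometry Opposite
open AlgSp AlgSpLib

noncomputable section

namespace QuotThickLib

variable {S : Scheme.{u}} {R U : Over S} {s t : R ⟶ U}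

/-- The quotient of a flat equivalence relation is a scheme if its restriction to a thickened base has one. -/
theorem isRepSh_of_thick (h : IsEqvRel s t) [Flat s.left] [LocallyOfFinitePresentation s.left] [Flat t.left]
    [LocallyOfFinitePresentation t.left] {S₀ : Over S} (hS₀ : MoreMor.IsThickening S₀.hom)
    {X₀ : Over S} (p₀ : U ⊗ S₀ ⟶ X₀) [Flat p₀.left] [LocallyOfFinitePresentation p₀.left] [Surjective p₀.left]
    (sq₀ : IsPullback (t ▷ S₀) (s ▷ S₀) p₀ p₀) :
    IsRepSh (QuotSh.quot Scheme.fppfPrecoverage s t) := by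
  let Q := QuotSh.quot Scheme.fppfPrecoverage s t
  have sqQ := isPullback_qπ s t h
  have hQ : IsAlgSpace Q := Groth.Agent.Boot.isAlgSpace_of_fppf_kernelPair (s := s) (t := t) sqQ
  obtain ⟨c, hc⟩ := exists_desc (qπ s t) ((yon S).map (toUnit U)) fun T b b' _ => by
    obtain ⟨b, rfl⟩ := (yon S).map_surjective b
    obtain ⟨b', rfl⟩ := (yon S).map_surjective b'
    rw [← Functor.map_comp, ← Functor.map_comp, toUnit_unique (b ≫ toUnit U) (b' ≫ toUnit U)]
  let j : (yon S).obj S₀ ⟶ (yon S).obj (𝟙_ (Over S)) := (yon S).map (toUnit S₀)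
  have hj : IsThickMor j := (isThickMor_yon_map_iff _).2 hS₀
  let i : pullback c j ⟶ Q := pullback.fst c j
  have hi : IsThickMor i := repWith_of_isPullback (IsPullback.of_hasPullback c j).flip hj
  let π₀ : (yon S).obj (U ⊗ S₀) ⟶ pullback c j :=
    pullback.lift ((yon S).map (fst U S₀) ≫ qπ s t) ((yon S).map (snd U S₀)) (by
      rw [Category.assoc, hc, ← Functor.map_comp, ← Functor.map_comp]
      exact congrArg _ (toUnit_unique _ _))
  have outer : IsPullback ((yon S).map (snd U S₀)) ((yon S).map (fst U S₀)) j (qπ s t ≫ c) := by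
    rw [hc]
    refine (IsPullback.map (yon S) ?_)
    refine ⟨⟨toUnit_unique _ _⟩, ⟨PullbackCone.IsLimit.mk _ (fun c => lift c.snd c.fst)
      (fun c => lift_snd _ _) (fun c => lift_fst _ _) (fun c m h1 h2 => ?_)⟩⟩
    exact CartesianMonoidalCategory.hom_ext _ _ (h2.trans (lift_fst _ _).symm) (h1.trans (lift_snd _ _).symm)
  have hfst : π₀ ≫ i = (yon S).map (fst U S₀) ≫ qπ s t := pullback.lift_fst _ _ _
  have sqπ : IsPullback π₀ ((yon S).map (fst U S₀)) i (qπ s t) := by
    refine IsPullback.of_right ?_ hfst (IsPullback.of_hasPullback c j).flip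
    rw [show π₀ ≫ pullback.snd c j = (yon S).map (snd U S₀) from pullback.lift_snd _ _ _]
    exact outer
  haveI : Epi (qπ s t) := (Sheaf.isLocallySurjective_iff_epi _).mp inferInstance
  haveI : Epi π₀ := ShfQuotLib.epi_of_isPullback sqπ.flip
  haveI : Sheaf.IsLocallySurjective π₀ := (Sheaf.isLocallySurjective_iff_epi _).mpr inferInstance
  have hsq₀ : IsPullback ((yon S).map (t ▷ S₀)) ((yon S).map (s ▷ S₀)) π₀ π₀ := by
    refine isPullback_of_forall_existsUnique ?_ fun T a b e => ?_
    · refine pullback.hom_ext ?_ ?_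
      · simp only [Category.assoc]
        rw [hfst, ← Functor.map_comp_assoc, ← Functor.map_comp_assoc, whiskerRight_fst, whiskerRight_fst,
          Functor.map_comp, Functor.map_comp, Category.assoc, Category.assoc, sqQ.w]
      · simp only [Category.assoc, π₀, pullback.lift_snd, ← Functor.map_comp, whiskerRight_snd]
    · obtain ⟨a, rfl⟩ := (yon S).map_surjective a
      obtain ⟨b, rfl⟩ := (yon S).map_surjective b
      have e1 : (yon S).map (a ≫ fst U S₀) ≫ qπ s t = (yon S).map (b ≫ fst U S₀) ≫ qπ s t := by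
        have := congrArg (· ≫ i) e
        simpa only [Category.assoc, hfst, Functor.map_comp] using this
      have e2 : a ≫ snd U S₀ = b ≫ snd U S₀ := (yon S).map_injective (by
        have := congrArg (· ≫ pullback.snd c j) e
        simpa only [Category.assoc, π₀, pullback.lift_snd, Functor.map_comp] using this)
      obtain ⟨r, hr1, hr2⟩ := (Groth.Agent.QuotRep.map_π_eq_iff h _ _).mp e1
      refine ⟨(yon S).map (lift r (a ≫ snd U S₀)), ⟨?_, ?_⟩, fun l hl => ?_⟩
      · rw [← Functor.map_comp]
        refine congrArg _ (CartesianMonoidalCategory.hom_ext _ _ ?_ ?_)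
        · rw [Category.assoc, whiskerRight_fst, lift_fst_assoc, hr1]
        · rw [Category.assoc, whiskerRight_snd, lift_snd]
      · rw [← Functor.map_comp]
        refine congrArg _ (CartesianMonoidalCategory.hom_ext _ _ ?_ ?_)
        · rw [Category.assoc, whiskerRight_fst, lift_fst_assoc, hr2]
        · rw [Category.assoc, whiskerRight_snd, lift_snd, e2]
      · obtain ⟨l, rfl⟩ := (yon S).map_surjective l
        obtain ⟨h1, h2⟩ := hl
        have h1' : l ≫ (t ▷ S₀) = a := (yon S).map_injective (by rw [Functor.map_comp]; exact h1)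
        have h2' : l ≫ (s ▷ S₀) = b := (yon S).map_injective (by rw [Functor.map_comp]; exact h2)
        refine congrArg _ (CartesianMonoidalCategory.hom_ext _ _ ?_ ?_)
        · rw [lift_fst]
          refine h.injective _ _ _ ?_ ?_
          · rw [hr1, ← h1', Category.assoc, Category.assoc, whiskerRight_fst]
          · rw [hr2, ← h2', Category.assoc, Category.assoc, whiskerRight_fst]
        · rw [lift_snd, ← h1', Category.assoc, whiskerRight_snd]
  haveI := isLocallySurjective_yon_map p₀
  have sqX : IsPullback ((yon S).map (t ▷ S₀)) ((yon S).map (s ▷ S₀)) ((yon S).map p₀) ((yon S).map p₀) :=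
    sq₀.map (yon S)
  obtain ⟨e₁⟩ := Groth.Agent.Boot.nonempty_iso_quot hsq₀
  obtain ⟨e₂⟩ := Groth.Agent.Boot.nonempty_iso_quot sqX
  have e : (yon S).obj X₀ ≅ pullback c j := e₂.symm ≪≫ e₁
  exact ThickQuotLib.isRepSh_of_thick (IsAlgSpace.of_iso (IsAlgSpace.yon_obj X₀) e) hQ hi ⟨X₀, ⟨e⟩⟩

end QuotThickLib
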